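import Mathlib
import Groth.Agent.S0505
import Groth.Agent.Hensel.Local

/-! Finite extensions of complete discrete valuation rings. -/

set_option autoImplicit false
universe u v

namespace Groth.Agent.CAlgDVRExtLib

open IsLocalRing

theorem henselianLocalRing_of_complete (A : Type u) [CommRing A] [IsLocalRing A]
    [IsAdicComplete (maximalIdeal A) A] : HenselianLocalRing A :=
  Hensel.henselianRing_maximalIdeal_iff.mp inferInstance

variable (A : Type u) (B : Type u) [CommRing A] [IsDomain A] [IsDiscreteValuationRing A]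
  [IsAdicComplete (maximalIdeal A) A]
  [CommRing B] [IsDedekindDomain B] [Algebra A B] [Module.Finite A B] [Module.IsTorsionFree A B]

include A

theorem isLocalRing : IsLocalRing B := by
  classical
  haveI := henselianLocalRing_of_complete A
  obtain ⟨ι, _, C, _, hC, ⟨φ⟩⟩ := Hensel.exists_pi_local_of_henselian A B
  have hsub : ∀ i j : ι, i = j := by
    intro i j
    by_contra hij
    haveI := hC i
    haveI := hC j
    have h0 : φ.symm (Pi.single i 1) * φ.symm (Pi.single j 1) = 0 := by
      rw [← map_mul, ← map_zero φ.symm]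
      congr 1
      ext k
      rcases eq_or_ne k i with rfl | hk
      · simp [Pi.single_eq_of_ne hij]
      · simp [Pi.single_eq_of_ne hk]
    rcases mul_eq_zero.mp h0 with h | h
    · have := congrFun ((map_eq_zero_iff φ.symm φ.symm.injective).mp h) i
      simp at this
    · have := congrFun ((map_eq_zero_iff φ.symm φ.symm.injective).mp h) j
      simp at this
  rcases isEmpty_or_nonempty ι with hι | ⟨⟨i⟩⟩
  · exact absurd (φ.injective (Subsingleton.elim (φ 0) (φ 1))) zero_ne_one
  · letI : Unique ι := { default := i, uniq := fun j => hsub j i }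
    haveI := hC (default : ι)
    exact (φ.trans (RingEquiv.piUnique C)).symm.isLocalRing

theorem isDiscreteValuationRing :
    @IsDiscreteValuationRing B _ _ := by
  haveI := isLocalRing A B
  refine { toIsPrincipalIdealRing := ?_, toIsLocalRing := isLocalRing A B, not_a_field' := ?_ }
  · refine IsPrincipalIdealRing.of_finite_maximals
      ((Set.finite_singleton (maximalIdeal B)).subset fun I hI => IsLocalRing.eq_maximalIdeal hI)
  · intro h
    have hB : IsField B := isField_iff_maximalIdeal_eq.mpr h
    exact IsDiscreteValuationRing.not_isField A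
      (isField_of_isIntegral_of_isField (FaithfulSMul.algebraMap_injective A B) hB)

variable {A B}
variable (M : Ideal B) [hM : M.IsMaximal]

theorem eq_maximal (N : Ideal B) [N.IsMaximal] : N = M := by
  haveI := isLocalRing A B
  rw [IsLocalRing.eq_maximalIdeal hM, IsLocalRing.eq_maximalIdeal (I := N) ‹_›]

theorem liesOver : M.LiesOver (maximalIdeal A) :=
  ⟨(IsLocalRing.eq_maximalIdeal (Ideal.isMaximal_comap_of_isIntegral_of_isMaximal (R := A) M)).symm⟩

theorem exists_eq_pow (I : Ideal B) (hI : I ≠ ⊥) : ∃ k : ℕ, I = M ^ k := by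
  haveI := isDiscreteValuationRing A B
  obtain ⟨ϖ, hϖ⟩ := IsDiscreteValuationRing.exists_irreducible B
  obtain ⟨k, rfl⟩ := IsDiscreteValuationRing.ideal_eq_span_pow_irreducible hI hϖ
  exact ⟨k, by rw [IsLocalRing.eq_maximalIdeal hM, hϖ.maximalIdeal_eq, Ideal.span_singleton_pow]⟩

theorem ne_bot : M ≠ ⊥ := by
  haveI := isDiscreteValuationRing A B
  rw [IsLocalRing.eq_maximalIdeal hM]
  exact IsDiscreteValuationRing.not_a_field B

theorem ramIdx_mul_inertiaDeg :
    M.ramificationIdx A * M.inertiaDeg A = Module.finrank A B := by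
  haveI := liesOver (A := A) M
  haveI : M.IsPrime := hM.isPrime
  haveI : Subsingleton ((maximalIdeal A).primesOver B) := by
    constructor
    rintro ⟨P, hP, hP'⟩ ⟨Q, hQ, hQ'⟩
    haveI := hP; haveI := hP'; haveI := hQ; haveI := hQ'
    haveI := Ideal.IsMaximal.of_liesOver_isMaximal P (maximalIdeal A)
    haveI := Ideal.IsMaximal.of_liesOver_isMaximal Q (maximalIdeal A)
    exact Subtype.ext ((eq_maximal (A := A) M P).trans (eq_maximal (A := A) M Q).symm)
  letI : Fintype ((maximalIdeal A).primesOver B) := Fintype.ofFinite _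
  rw [← Ideal.sum_ramification_inertia_eq_finrank (p := maximalIdeal A) (S := B),
    Fintype.sum_subsingleton _ ⟨M, hM.isPrime, liesOver M⟩]

theorem map_maximalIdeal : (maximalIdeal A).map (algebraMap A B) = M ^ M.ramificationIdx A := by
  haveI := liesOver (A := A) M
  haveI : M.IsPrime := hM.isPrime
  have h0 : maximalIdeal A ≠ ⊥ := IsDiscreteValuationRing.not_a_field A
  obtain ⟨k, hk⟩ := exists_eq_pow (A := A) M _ (Ideal.map_ne_bot_of_ne_bot (S := B) h0)
  rw [← Ideal.ramificationIdx'_eq_ramificationIdx (maximalIdeal A) M h0,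
    Ideal.ramificationIdx'_spec hk.le, hk]
  rw [hk]
  intro hle
  exact absurd ((Ideal.pow_right_strictAnti M (ne_bot (A := A) M) hM.ne_top
    (Nat.lt_succ_self k)).trans_le hle) (lt_irrefl _)

theorem relNorm_eq : Ideal.relNorm A M = maximalIdeal A ^ M.inertiaDeg A := by
  haveI := liesOver (A := A) M
  haveI : M.IsPrime := hM.isPrime
  obtain ⟨π, hπ⟩ := IsDiscreteValuationRing.exists_irreducible A
  have hne : Ideal.relNorm A M ≠ ⊥ := by
    rw [Ne, Ideal.relNorm_eq_bot_iff]; exact ne_bot (A := A) M
  obtain ⟨j, hj⟩ := IsDiscreteValuationRing.ideal_eq_span_pow_irreducible hne hπ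
  rw [← Ideal.span_singleton_pow, ← hπ.maximalIdeal_eq] at hj
  have h1 := Ideal.relNorm_algebraMap (R := A) (S := B) (maximalIdeal A)
  rw [map_maximalIdeal M, map_pow, hj, ← pow_mul, ← ramIdx_mul_inertiaDeg M] at h1
  have hinj : j * M.ramificationIdx A = M.ramificationIdx A * M.inertiaDeg A :=
    (Ideal.pow_right_strictAnti (maximalIdeal A) (IsDiscreteValuationRing.not_a_field A)
      (maximalIdeal.isMaximal A).ne_top).injective h1
  have hji : j = M.inertiaDeg A := by
    refine Nat.eq_of_mul_eq_mul_left (Ideal.ramificationIdx_pos M A) ?_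
    rw [mul_comm, hinj]
  rw [hj, hji]

end Groth.Agent.CAlgDVRExtLib
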